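import Groth.Agent.ConormalInjLib.Comp
import Groth.Agent.OmegaAffLib.Exact

/-!
# Functions on a square zero thickening from functions on the subscheme and differentials
-/

set_option autoImplicit false
set_option linter.style.haveILetI false
set_option maxHeartbeats 800000
set_option backward.isDefEq.respectTransparency false
set_option backward.isDefEq.respectTransparency.types false

universe u

open CategoryTheory CategoryTheory.Limits AlgebraicGeometry TopologicalSpace Opposite TensorProduct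
open OmegaSh (pullSect conormalSect idealSect)
open ModGlueLib (rs)

noncomputable section

namespace RibbonExtLib

variable {D C S : Scheme.{u}} (i : D ⟶ C) [IsClosedImmersion i]

theorem surjective_base (hsq : i.ker ^ 2 = ⊥) : Function.Surjective i.base := by
  intro c
  have h2 : i.ker.support = ⊤ := by
    refine top_le_iff.1 fun x _ => ?_
    by_contra hx
    have hc : x ∈ ((i.ker ^ 2).support : Set C) := by rw [hsq, Scheme.IdealSheafData.support_bot]; trivial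
    rw [Scheme.IdealSheafData.support_pow _ (n := 2) two_ne_zero] at hc
    exact hx hc
  have hc : c ∈ (i.ker.support : Set C) := by rw [h2]; trivial
  rwa [Scheme.Hom.support_ker, i.isClosedEmbedding.isClosed_range.closure_eq] at hc

/-- The homeomorphism of a square zero thickening with the subscheme. -/
def homeo (hsq : i.ker ^ 2 = ⊥) : D ≃ₜ C :=
  (isHomeomorph_iff_isEmbedding_surjective.mpr
    ⟨i.isClosedEmbedding.isEmbedding, surjective_base i hsq⟩).homeomorph i.base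

theorem homeo_apply (hsq : i.ker ^ 2 = ⊥) (d : D) : homeo i hsq d = i.base d := rfl

theorem le_coborderRange (W : C.Opens) : W ≤ i.coborderRange := fun x _ => by
  show x ∈ coborder (Set.range i.base)
  rw [i.isClosedEmbedding.isClosed_range.coborder_eq]
  trivial

theorem idealSect_eq_zero_of_affine (hsq : i.ker ^ 2 = ⊥) {W : C.Opens} (hW : IsAffineOpen W)
    (s : Γ(ClSub.idealMod i.ker, W)) (h : conormalSect i W s = 0) : s = 0 := by
  have h1 := ConormalInjLib.mem_ker_sq_of_conormalSect_eq_zero i hW (le_coborderRange i W) s h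
  have h2 : RingHom.ker (i.app W).hom ^ 2 = ⊥ := by
    rw [← Scheme.Hom.ker_apply i ⟨W, hW⟩]
    have := congrArg (fun I : C.IdealSheafData => I.ideal ⟨W, hW⟩) hsq
    simpa [Scheme.IdealSheafData.ideal_pow] using this
  rw [h2, Ideal.mem_bot] at h1
  exact ConormalSecLib.idealSect_injective i W (h1.trans (map_zero _).symm)

theorem conormalSect_injective (hsq : i.ker ^ 2 = ⊥) (U : C.Opens) (s : Γ(ClSub.idealMod i.ker, U))
    (h : conormalSect i U s = 0) : s = 0 := by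
  refine TopCat.Sheaf.eq_of_locally_eq' ((QCohLib.toAbF C).obj (ClSub.idealMod i.ker) : TopCat.Sheaf AddCommGrpCat _)
    (fun V : {V : C.affineOpens // (V : C.Opens) ≤ U} => (V.1 : C.Opens)) U (fun V => homOfLE V.2) ?_ s 0 fun V => ?_
  · intro z hz
    obtain ⟨_, ⟨V, hV, rfl⟩, hzV, hVU⟩ := C.isBasis_affineOpens.exists_subset_of_mem_open hz U.isOpen
    exact Opens.mem_iSup.mpr ⟨⟨⟨V, hV⟩, hVU⟩, hzV⟩
  · refine (idealSect_eq_zero_of_affine i hsq V.1.2 _ ?_).trans (map_zero _).symm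
    refine (OmegaSh.pullSect_map i (ClSub.idealMod i.ker) V.2 s).trans ?_
    exact (congrArg (rs (Omega.conormal i) (i.preimage_mono V.2)) h).trans (map_zero _)

theorem conormalSect_surjective {W : C.Opens} (hW : IsAffineOpen W) (y : Γ(Omega.conormal i, i ⁻¹ᵁ W)) :
    ∃ s : Γ(ClSub.idealMod i.ker, W), conormalSect i W s = y := by
  obtain ⟨hU', hsurj⟩ := ConormalInjLib.chart_of_le i hW (le_coborderRange i W)
  let Q := ClSub.idealMod i.ker
  haveI : Coh.IsQCoh Q := SweepSix.ConormalSpec.isQCoh_idealMod _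
  letI := (i.app W).hom.toAlgebra
  have halg : ∀ r, algebraMap Γ(C, W) Γ(D, i ⁻¹ᵁ W) r = (i.appLE W (i ⁻¹ᵁ W) le_rfl).hom r := fun r => by
    rw [← Scheme.Hom.app_eq_appLE]; rfl
  letI : Module Γ(C, W) Γ(KFlatLib.pb i Q, i ⁻¹ᵁ W) := Module.compHom _ (i.app W).hom
  haveI : IsScalarTower Γ(C, W) Γ(D, i ⁻¹ᵁ W) Γ(KFlatLib.pb i Q, i ⁻¹ᵁ W) :=
    IsScalarTower.of_algebraMap_smul fun a t => rfl
  let θ : Γ(Q, W) →ₗ[Γ(C, W)] Γ(KFlatLib.pb i Q, i ⁻¹ᵁ W) :=
    { toFun := KFlatLib.puSecLE i Q le_rfl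
      map_add' := map_add _
      map_smul' := fun r m => (KFlatLib.puSecLE_smul i Q le_rfl r m).trans (by
        rw [← Scheme.Hom.app_eq_appLE]; rfl) }
  have hθ : IsBaseChange Γ(D, i ⁻¹ᵁ W) θ :=
    KFlatLib.isBaseChange_puSec i Q hW hU' le_rfl halg θ fun _ => rfl
  obtain ⟨w, hw⟩ := hθ.equiv.surjective y
  have hθ' : ∀ m, θ m = conormalSect i W m := fun m => by
    show KFlatLib.puSecLE i Q (le_refl (i ⁻¹ᵁ W)) m = _
    rw [KFlatLib.puSecLE_apply, Subsingleton.elim (homOfLE (le_refl (i ⁻¹ᵁ W))).op (𝟙 _),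
      CategoryTheory.Functor.map_id]
    rfl
  suffices ∀ w, ∃ m, θ m = hθ.equiv w by
    obtain ⟨m, hm⟩ := this w
    exact ⟨m, (hθ' m).symm.trans (hm.trans hw)⟩
  intro w
  induction w using TensorProduct.induction_on with
  | zero => exact ⟨0, by rw [map_zero, map_zero]⟩
  | tmul a m =>
    obtain ⟨r, hr⟩ := hsurj a
    exact ⟨r • m, by
      rw [map_smul, IsBaseChange.equiv_tmul, ← hr]
      rfl⟩
  | add a b ha hb =>
    obtain ⟨m, hm⟩ := ha
    obtain ⟨n, hn⟩ := hb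
    exact ⟨m + n, by rw [map_add, map_add, hm, hn]⟩

variable {pC : C ⟶ S} {Ω₁ : C.Modules} (d₁ : OmegaSh.Der pC Ω₁)

/-- The restricted differential of a function. -/
def δ (U : C.Opens) : Γ(C, U) →+ Γ((Scheme.Modules.pullback i).obj Ω₁, i ⁻¹ᵁ U) :=
  (pullSect i Ω₁ U).hom.comp (d₁.app U)

omit [IsClosedImmersion i] in
theorem δ_apply (U : C.Opens) (a : Γ(C, U)) : δ i d₁ U a = pullSect i Ω₁ U (d₁.app U a) := rfl

omit [IsClosedImmersion i] in
theorem δ_mul (U : C.Opens) (a b : Γ(C, U)) :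
    δ i d₁ U (a * b) = i.app U a • δ i d₁ U b + i.app U b • δ i d₁ U a := by
  simp only [δ_apply]
  rw [OmegaAffLib.der_mul, map_add, OmegaSh.pullSect_smul, OmegaSh.pullSect_smul]

omit [IsClosedImmersion i] in
theorem δ_map {U V : C.Opens} (e : V ≤ U) (a : Γ(C, U)) :
    δ i d₁ V (C.presheaf.map (homOfLE e).op a) =
      rs ((Scheme.Modules.pullback i).obj Ω₁) (i.preimage_mono e) (δ i d₁ U a) := by
  simp only [δ_apply]
  rw [OmegaAffLib.der_rs]
  exact OmegaSh.pullSect_map i Ω₁ e _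

omit [IsClosedImmersion i] in
theorem δ_base (O : S.Opens) (r : Γ(S, O)) : δ i d₁ (pC ⁻¹ᵁ O) (pC.app O r) = 0 := by
  rw [δ_apply]
  exact (congrArg (pullSect i Ω₁ (pC ⁻¹ᵁ O)).hom (d₁.d_app (X := op O) r)).trans (map_zero _)

omit [IsClosedImmersion i] in
theorem app_map {U V : C.Opens} (e : V ≤ U) (a : Γ(C, U)) :
    i.app V (C.presheaf.map (homOfLE e).op a) = D.presheaf.map (homOfLE (i.preimage_mono e)).op (i.app U a) :=
  congr($(i.naturality (homOfLE e).op) a)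

variable {φ : Omega.conormal i ⟶ (Scheme.Modules.pullback i).obj Ω₁} (hφ : OmegaSh.IsConormalDiff i d₁ φ) [Mono φ]

include hφ in
theorem eq_zero (hsq : i.ker ^ 2 = ⊥) (U : C.Opens) (a : Γ(C, U)) (h₁ : i.app U a = 0) (h₂ : δ i d₁ U a = 0) :
    a = 0 := by
  have hs : conormalSect i U (ConormalSecLib.lift i U a h₁) = 0 := by
    apply QCohLib.app_injective_of_mono φ (i ⁻¹ᵁ U)
    rw [hφ, ConormalSecLib.idealSect_lift, map_zero]
    exact h₂
  have := congrArg (idealSect i.ker U) (conormalSect_injective i hsq U _ hs)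
  rwa [ConormalSecLib.idealSect_lift, map_zero] at this

include hφ in
theorem ext_sect (hsq : i.ker ^ 2 = ⊥) {U : C.Opens} {a b : Γ(C, U)} (h₁ : i.app U a = i.app U b)
    (h₂ : δ i d₁ U a = δ i d₁ U b) : a = b :=
  sub_eq_zero.1 (eq_zero i d₁ hφ hsq U (a - b) (by rw [map_sub, h₁, sub_self]) (by rw [map_sub, h₂, sub_self]))

variable {Ω₂ : D.Modules} {d₂ : OmegaSh.Der (i ≫ pC) Ω₂} {c : (Scheme.Modules.pullback i).obj Ω₁ ⟶ Ω₂}
  (hc : OmegaSh.IsDiffCompat i d₁ d₂ c) {hw : φ ≫ c = 0} (hS : (ShortComplex.mk φ c hw).ShortExact)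

include hφ hc hS in
theorem exists_affine {W : C.Opens} (hW : IsAffineOpen W) (x : Γ(D, i ⁻¹ᵁ W))
    (ω : Γ((Scheme.Modules.pullback i).obj Ω₁, i ⁻¹ᵁ W)) (h : c.app (i ⁻¹ᵁ W) ω = d₂.app (i ⁻¹ᵁ W) x) :
    ∃ a : Γ(C, W), i.app W a = x ∧ δ i d₁ W a = ω := by
  obtain ⟨-, hsurj⟩ := ConormalInjLib.chart_of_le i hW (le_coborderRange i W)
  obtain ⟨a, rfl⟩ := hsurj x
  obtain ⟨y, hy⟩ := QCohLib.exists_of_app_eq_zero hS.exact hS.mono_f (ω - δ i d₁ W a) (by
    show c.app (i ⁻¹ᵁ W) _ = 0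
    rw [map_sub, h, δ_apply, hc W a, sub_self])
  obtain ⟨s, rfl⟩ := conormalSect_surjective i hW y
  refine ⟨a + idealSect i.ker W s, ?_, ?_⟩
  · rw [map_add, ConormalSecLib.app_idealSect, add_zero]
  · have hy' : δ i d₁ W (idealSect i.ker W s) = ω - δ i d₁ W a := (hφ W s).symm.trans hy
    rw [map_add, hy', add_sub_cancel]

include hφ hc hS in
theorem exists_sect (hsq : i.ker ^ 2 = ⊥) (U : C.Opens) (x : Γ(D, i ⁻¹ᵁ U))
    (ω : Γ((Scheme.Modules.pullback i).obj Ω₁, i ⁻¹ᵁ U)) (h : c.app (i ⁻¹ᵁ U) ω = d₂.app (i ⁻¹ᵁ U) x) :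
    ∃ a : Γ(C, U), i.app U a = x ∧ δ i d₁ U a = ω := by
  let ι := {V : C.affineOpens // (V : C.Opens) ≤ U}
  have hloc : ∀ V : ι, ∃ a : Γ(C, (V.1 : C.Opens)),
      i.app _ a = D.presheaf.map (homOfLE (i.preimage_mono V.2)).op x ∧
      δ i d₁ _ a = rs _ (i.preimage_mono V.2) ω := fun V => by
    refine exists_affine i d₁ hφ hc hS V.1.2 _ _ ?_
    refine (congr($((Scheme.Modules.Hom.mapPresheaf c).naturality (homOfLE (i.preimage_mono V.2)).op) ω)).trans ?_
    show rs Ω₂ (i.preimage_mono V.2) (c.app (i ⁻¹ᵁ U) ω) = _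
    rw [h, ← OmegaAffLib.der_rs]
  choose a ha hb using hloc
  obtain ⟨A, hA, -⟩ := TopCat.Sheaf.existsUnique_gluing' C.sheaf (fun V : ι => (V.1 : C.Opens)) U
    (fun V => homOfLE V.2) (fun z hz => by
      obtain ⟨_, ⟨V, hV, rfl⟩, hzV, hVU⟩ := C.isBasis_affineOpens.exists_subset_of_mem_open hz U.isOpen
      exact Opens.mem_iSup.mpr ⟨⟨⟨V, hV⟩, hVU⟩, hzV⟩) a (fun V W => by
      refine ext_sect i d₁ hφ hsq ?_ ?_
      · show i.app _ (C.presheaf.map (homOfLE inf_le_left).op (a V)) =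
          i.app _ (C.presheaf.map (homOfLE inf_le_right).op (a W))
        rw [app_map, app_map, ha, ha, OmegaSh.res_res, OmegaSh.res_res]
      · show δ i d₁ _ (C.presheaf.map (homOfLE inf_le_left).op (a V)) =
          δ i d₁ _ (C.presheaf.map (homOfLE inf_le_right).op (a W))
        rw [δ_map, δ_map, hb, hb, ModGlueLib.rs_rs, ModGlueLib.rs_rs])
  have hcov : i ⁻¹ᵁ U ≤ ⨆ V : ι, i ⁻¹ᵁ (V.1 : C.Opens) := fun z hz => by
    obtain ⟨_, ⟨V, hV, rfl⟩, hzV, hVU⟩ := C.isBasis_affineOpens.exists_subset_of_mem_open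
      (show i.base z ∈ (U : Set C) from hz) U.isOpen
    exact Opens.mem_iSup.mpr ⟨⟨⟨V, hV⟩, hVU⟩, hzV⟩
  refine ⟨A, ?_, ?_⟩
  · refine D.sheaf.eq_of_locally_eq' (fun V : ι => i ⁻¹ᵁ (V.1 : C.Opens)) (i ⁻¹ᵁ U)
      (fun V => homOfLE (i.preimage_mono V.2)) hcov _ _ fun V => ?_
    exact (app_map i V.2 A).symm.trans ((congrArg (i.app _).hom (hA V)).trans (ha V))
  · refine TopCat.Sheaf.eq_of_locally_eq'
      ((QCohLib.toAbF D).obj ((Scheme.Modules.pullback i).obj Ω₁) : TopCat.Sheaf AddCommGrpCat _)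
      (fun V : ι => i ⁻¹ᵁ (V.1 : C.Opens)) (i ⁻¹ᵁ U) (fun V => homOfLE (i.preimage_mono V.2)) hcov _ _ fun V => ?_
    exact (δ_map i d₁ V.2 A).symm.trans ((congrArg (δ i d₁ _) (hA V)).trans (hb V))

end RibbonExtLib

end
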