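import Groth.Agent.RibbonExtLib.Basic
import Mathlib.AlgebraicGeometry.Morphisms.ClosedImmersion

/-!
# Extending morphisms to a square zero thickening
-/

set_option autoImplicit false
set_option linter.style.haveILetI false
set_option maxHeartbeats 1600000
set_option backward.isDefEq.respectTransparency false
set_option backward.isDefEq.respectTransparency.types false

universe u

open CategoryTheory CategoryTheory.Limits AlgebraicGeometry TopologicalSpace Opposite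
open OmegaSh (pullSect conormalSect idealSect)
open ModGlueLib (rs)

noncomputable section

namespace RibbonExtLib

variable {D C X S : Scheme.{u}} (i : D ⟶ C) [IsClosedImmersion i] (hsq : i.ker ^ 2 = ⊥)
  {pC : C ⟶ S} {pX : X ⟶ S} {Ω₁ : C.Modules} (d₁ : OmegaSh.Der pC Ω₁) {Ω₃ : X.Modules} (d₃ : OmegaSh.Der pX Ω₃)

omit [IsClosedImmersion i] in
theorem rs_δ_congr {U U' : C.Opens} {V : D.Opens} (e : U' ≤ U) (h : V ≤ i ⁻¹ᵁ U') (a : Γ(C, U)) :
    rs ((Scheme.Modules.pullback i).obj Ω₁) h (δ i d₁ U' (C.presheaf.map (homOfLE e).op a)) =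
      rs _ (h.trans (i.preimage_mono e)) (δ i d₁ U a) := by
  rw [δ_map, ModGlueLib.rs_rs]

/-- The derivation of a morphism out of the thickening. -/
def homDer (g : C ⟶ X) (hg : g ≫ pX = pC) :
    OmegaSh.Der pX ((Scheme.Modules.pushforward (i ≫ g)).obj ((Scheme.Modules.pullback i).obj Ω₁)) where
  d {W} := AddMonoidHom.mk' (fun a => δ i d₁ (g ⁻¹ᵁ W.unop) (g.app W.unop a))
    (fun a b => (congrArg (δ i d₁ (g ⁻¹ᵁ W.unop)) (map_add (g.app W.unop).hom a b)).trans (map_add _ _ _))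
  d_mul {W} a b := by
    show δ i d₁ (g ⁻¹ᵁ W.unop) (g.app W.unop (a * b)) = _
    rw [map_mul, δ_mul]
    rfl
  d_map {W W'} e a := by
    show δ i d₁ (g ⁻¹ᵁ W'.unop) (g.app W'.unop (X.presheaf.map (homOfLE e.unop.le).op a)) = _
    rw [show g.app W'.unop (X.presheaf.map (homOfLE e.unop.le).op a) =
      C.presheaf.map (homOfLE (g.preimage_mono e.unop.le)).op (g.app W.unop a) from
        congr($(g.naturality (homOfLE e.unop.le).op) a), δ_map]
    rfl
  d_app {O} c := by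
    show δ i d₁ (g ⁻¹ᵁ (pX ⁻¹ᵁ O.unop)) (g.app (pX ⁻¹ᵁ O.unop) (pX.app O.unop c)) = 0
    subst hg
    rw [← ConcreteCategory.comp_apply, ← Scheme.Hom.comp_app]
    exact δ_base i d₁ O.unop c

omit [IsClosedImmersion i] in
/-- The map on differentials restricted to the subscheme. -/
theorem exists_s (hd₃ : OmegaSh.IsUniversal d₃) (g : C ⟶ X) (hg : g ≫ pX = pC) {f : D ⟶ X} (hf : i ≫ g = f) :
    ∃ s : (Scheme.Modules.pullback f).obj Ω₃ ⟶ (Scheme.Modules.pullback i).obj Ω₁,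
      ∀ (V : X.Opens) (a : Γ(X, V)), s.app (f ⁻¹ᵁ V) (pullSect f Ω₃ V (d₃.app V a)) =
        rs _ (le_of_eq (by rw [← hf]; rfl)) (δ i d₁ (g ⁻¹ᵁ V) (g.app V a)) := by
  subst hf
  obtain ⟨β, hβ, -⟩ := hd₃ _ (homDer i d₁ g hg)
  refine ⟨((Scheme.Modules.pullbackPushforwardAdjunction (i ≫ g)).homEquiv _ _).symm β, fun V a => ?_⟩
  have h := congr((($(((Scheme.Modules.pullbackPushforwardAdjunction (i ≫ g)).homEquiv _ _).apply_symm_apply β)).app V)
    (d₃.app V a))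
  rw [Adjunction.homEquiv_unit] at h
  refine (h.trans (congrArg (fun E : OmegaSh.Der pX _ => E.app V a) hβ)).trans ?_
  symm
  exact ConormalSecLib.rs_self _

variable {Ω₂ : D.Modules} {d₂ : OmegaSh.Der (i ≫ pC) Ω₂} {c : (Scheme.Modules.pullback i).obj Ω₁ ⟶ Ω₂}

omit [IsClosedImmersion i] in
theorem s_comp_eq (hd₃ : OmegaSh.IsUniversal d₃) (hc : OmegaSh.IsDiffCompat i d₁ d₂ c) (g : C ⟶ X) {f : D ⟶ X}
    (hf : i ≫ g = f) {df : (Scheme.Modules.pullback f).obj Ω₃ ⟶ Ω₂} (hdf : OmegaSh.IsDiffCompat f d₃ d₂ df)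
    {s : (Scheme.Modules.pullback f).obj Ω₃ ⟶ (Scheme.Modules.pullback i).obj Ω₁}
    (hs : ∀ (V : X.Opens) (a : Γ(X, V)), s.app (f ⁻¹ᵁ V) (pullSect f Ω₃ V (d₃.app V a)) =
      rs _ (le_of_eq (by rw [← hf]; rfl)) (δ i d₁ (g ⁻¹ᵁ V) (g.app V a))) : s ≫ c = df := by
  subst hf
  refine OmegaAffLib.hom_ext_pullback hd₃ fun V a => ?_
  rw [Scheme.Modules.Hom.comp_app, ConcreteCategory.comp_apply, hs, hdf V a, ConormalSecLib.rs_self, δ_apply]
  exact (hc (g ⁻¹ᵁ V) (g.app V a)).trans (congrArg (d₂.app _) (congr($(Scheme.Hom.comp_app i g V) a)).symm)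

variable {φ : Omega.conormal i ⟶ (Scheme.Modules.pullback i).obj Ω₁} {hw : φ ≫ c = 0}
  (hφ : OmegaSh.IsConormalDiff i d₁ φ) (hc : OmegaSh.IsDiffCompat i d₁ d₂ c)
  (hS : (ShortComplex.mk φ c hw).ShortExact)
  (f : D ⟶ X) {df : (Scheme.Modules.pullback f).obj Ω₃ ⟶ Ω₂} (hdf : OmegaSh.IsDiffCompat f d₃ d₂ df)
  (s : (Scheme.Modules.pullback f).obj Ω₃ ⟶ (Scheme.Modules.pullback i).obj Ω₁) (hs : s ≫ c = df)

/-- The continuous map of the extension. -/
def baseMap : ↥C → ↥X := fun z => f.base ((homeo i hsq).symm z)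

theorem continuous_baseMap : Continuous (baseMap i hsq f) :=
  f.continuous.comp (homeo i hsq).symm.continuous

theorem baseMap_apply (d : D) : baseMap i hsq f (i.base d) = f.base d := by
  show f.base ((homeo i hsq).symm (i.base d)) = f.base d
  rw [← homeo_apply i hsq d, Homeomorph.symm_apply_apply]

/-- The preimage of an open. -/
def pre (V : X.Opens) : C.Opens := ⟨baseMap i hsq f ⁻¹' V, V.2.preimage (continuous_baseMap i hsq f)⟩

theorem preimage_pre (V : X.Opens) : i ⁻¹ᵁ pre i hsq f V = f ⁻¹ᵁ V :=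
  Opens.ext (Set.ext fun d => by
    show baseMap i hsq f (i.base d) ∈ (V : Set X) ↔ f.base d ∈ (V : Set X)
    rw [baseMap_apply])

theorem pre_mono {V W : X.Opens} (e : W ≤ V) : pre i hsq f W ≤ pre i hsq f V := fun _ hz => e hz

/-- The defining property of the extended map on sections. -/
def IsImg (V : X.Opens) (a : Γ(X, V)) (b : Γ(C, pre i hsq f V)) : Prop :=
  i.app (pre i hsq f V) b = D.presheaf.map (homOfLE (preimage_pre i hsq f V).le).op (f.app V a) ∧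
    δ i d₁ (pre i hsq f V) b =
      rs _ (preimage_pre i hsq f V).le (s.app (f ⁻¹ᵁ V) (pullSect f Ω₃ V (d₃.app V a)))

include hφ hc hS hdf hs in
theorem exists_img (V : X.Opens) (a : Γ(X, V)) : ∃ b, IsImg i hsq d₁ d₃ f s V a b := by
  haveI : Mono φ := hS.mono_f
  refine exists_sect i d₁ hφ hc hS hsq _ _ _ ?_
  refine (congr($((Scheme.Modules.Hom.mapPresheaf c).naturality (homOfLE (preimage_pre i hsq f V).le).op)
    (s.app (f ⁻¹ᵁ V) (pullSect f Ω₃ V (d₃.app V a))))).trans ?_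
  show rs Ω₂ (preimage_pre i hsq f V).le (c.app (f ⁻¹ᵁ V) (s.app (f ⁻¹ᵁ V) _)) = _
  rw [← ConcreteCategory.comp_apply, ← Scheme.Modules.Hom.comp_app, hs, hdf V a, OmegaAffLib.der_rs]

include hφ hS in
theorem img_unique {V : X.Opens} {a : Γ(X, V)} {b b' : Γ(C, pre i hsq f V)} (h : IsImg i hsq d₁ d₃ f s V a b)
    (h' : IsImg i hsq d₁ d₃ f s V a b') : b = b' := by
  haveI : Mono φ := hS.mono_f
  exact ext_sect i d₁ hφ hsq (h.1.trans h'.1.symm) (h.2.trans h'.2.symm)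

theorem img_one (V : X.Opens) : IsImg i hsq d₁ d₃ f s V 1 1 := by
  have h : ∀ {T T' : Scheme.{u}} {p : T ⟶ T'} {F : T.Modules} (E : OmegaSh.Der p F) (U : T.Opens), E.app U 1 = 0 :=
    fun E U => by
      have := OmegaAffLib.der_mul E U 1 1
      rwa [one_mul, one_smul, left_eq_add] at this
  constructor
  · rw [map_one, map_one, map_one]
  · simp only [δ_apply, h, rs, map_zero]

theorem img_mul {V : X.Opens} {a a' : Γ(X, V)} {b b' : Γ(C, pre i hsq f V)} (h : IsImg i hsq d₁ d₃ f s V a b)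
    (h' : IsImg i hsq d₁ d₃ f s V a' b') : IsImg i hsq d₁ d₃ f s V (a * a') (b * b') := by
  constructor
  · rw [map_mul, map_mul, map_mul, h.1, h'.1]
  · rw [δ_mul, h.1, h.2, h'.1, h'.2, OmegaAffLib.der_mul, map_add, OmegaSh.pullSect_smul, OmegaSh.pullSect_smul,
      map_add, Scheme.Modules.Hom.app_smul, Scheme.Modules.Hom.app_smul]
    simp only [rs, map_add, Scheme.Modules.map_smul]

theorem img_add {V : X.Opens} {a a' : Γ(X, V)} {b b' : Γ(C, pre i hsq f V)} (h : IsImg i hsq d₁ d₃ f s V a b)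
    (h' : IsImg i hsq d₁ d₃ f s V a' b') : IsImg i hsq d₁ d₃ f s V (a + a') (b + b') := by
  constructor
  · rw [map_add, map_add, map_add, h.1, h'.1]
  · simp only [rs, map_add, h.2, h'.2]

theorem img_zero (V : X.Opens) : IsImg i hsq d₁ d₃ f s V 0 0 := by
  constructor
  · rw [map_zero, map_zero, map_zero]
  · simp only [rs, map_zero]

theorem img_map {V W : X.Opens} (e : W ≤ V) {a : Γ(X, V)} {b : Γ(C, pre i hsq f V)}
    (h : IsImg i hsq d₁ d₃ f s V a b) :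
    IsImg i hsq d₁ d₃ f s W (X.presheaf.map (homOfLE e).op a)
      (C.presheaf.map (homOfLE (pre_mono i hsq f e)).op b) := by
  constructor
  · rw [app_map, h.1, show f.app W (X.presheaf.map (homOfLE e).op a) =
      D.presheaf.map (homOfLE (f.preimage_mono e)).op (f.app V a) from congr($(f.naturality (homOfLE e).op) a),
      OmegaSh.res_res, OmegaSh.res_res]
  · have e1 : d₃.app W (X.presheaf.map (homOfLE e).op a) = rs Ω₃ e (d₃.app V a) := OmegaAffLib.der_rs d₃ e a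
    have e2 : pullSect f Ω₃ W (rs Ω₃ e (d₃.app V a)) =
        rs ((Scheme.Modules.pullback f).obj Ω₃) (f.preimage_mono e) (pullSect f Ω₃ V (d₃.app V a)) :=
      OmegaSh.pullSect_map f Ω₃ e _
    have e3 : s.app (f ⁻¹ᵁ W) (rs ((Scheme.Modules.pullback f).obj Ω₃) (f.preimage_mono e)
        (pullSect f Ω₃ V (d₃.app V a))) =
      rs ((Scheme.Modules.pullback i).obj Ω₁) (f.preimage_mono e)
        (s.app (f ⁻¹ᵁ V) (pullSect f Ω₃ V (d₃.app V a))) :=
      congr($((Scheme.Modules.Hom.mapPresheaf s).naturality (homOfLE (f.preimage_mono e)).op) _)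
    refine (δ_map i d₁ _ b).trans ?_
    refine (congrArg (rs _ _) h.2).trans ?_
    refine (ModGlueLib.rs_rs _ _ _ _).trans ?_
    rw [e1, e2, e3]
    exact (ModGlueLib.rs_rs _ _ _ _).symm

/-- The morphism of presheafed spaces from compatible ring maps. -/
def presHom (r : ∀ V : X.Opens, Γ(X, V) →+* Γ(C, pre i hsq f V))
    (hnat : ∀ {V W : X.Opens} (e : W ≤ V) (a : Γ(X, V)),
      r W (X.presheaf.map (homOfLE e).op a) = C.presheaf.map (homOfLE (pre_mono i hsq f e)).op (r V a)) :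
    C.toPresheafedSpace ⟶ X.toPresheafedSpace where
  base := TopCat.ofHom ⟨baseMap i hsq f, continuous_baseMap i hsq f⟩
  c :=
    { app := fun V => CommRingCat.ofHom (r V.unop)
      naturality := fun _ _ e => CommRingCat.hom_ext (RingHom.ext fun a => hnat e.unop.le a) }

section Space

variable (r : ∀ V : X.Opens, Γ(X, V) →+* Γ(C, pre i hsq f V))
  (hnat : ∀ {V W : X.Opens} (e : W ≤ V) (a : Γ(X, V)),
    r W (X.presheaf.map (homOfLE e).op a) = C.presheaf.map (homOfLE (pre_mono i hsq f e)).op (r V a))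
  (hr : ∀ (V : X.Opens) (a : Γ(X, V)),
    i.app (pre i hsq f V) (r V a) = D.presheaf.map (homOfLE (preimage_pre i hsq f V).le).op (f.app V a))

include hr in
theorem isUnit_germ (d : D) (V : X.Opens) (hV' : f.base d ∈ V) (hd : i.base d ∈ pre i hsq f V) (a : Γ(X, V))
    (ht : IsUnit (C.presheaf.germ (pre i hsq f V) (i.base d) hd (r V a))) :
    IsUnit (X.presheaf.germ V (f.base d) hV' a) := by
  have h2 := IsUnit.map (i.stalkMap d).hom ht
  rw [Scheme.Hom.germ_stalkMap_apply, hr] at h2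
  erw [D.presheaf.germ_res_apply] at h2
  rw [← Scheme.Hom.germ_stalkMap_apply f V d hV'] at h2
  exact isUnit_of_map_unit (f.stalkMap d).hom _ h2

include hr in
theorem isLocalHom_stalk (z : C) : IsLocalHom ((presHom i hsq f r hnat).stalkMap z).hom := by
  constructor
  intro t ht
  obtain ⟨V, hV, a, rfl⟩ := X.presheaf.germ_exist t
  erw [PresheafedSpace.stalkMap_germ_apply] at ht
  obtain ⟨d, rfl⟩ := surjective_base i hsq z
  have hV' : f.base d ∈ V := (baseMap_apply i hsq f d) ▸ hV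
  have h3 := isUnit_germ i hsq f r hr d V hV' hV a ht
  obtain ⟨W, j, hx, hu⟩ := X.toRingedSpace.isUnit_res_of_isUnit_germ V a (f.base d) hV' h3
  have hPW : baseMap i hsq f (i.base d) ∈ W := by
    rw [baseMap_apply]
    exact hx
  have h4 := hu.map (X.presheaf.germ W _ hPW).hom
  erw [X.presheaf.germ_res_apply] at h4
  exact h4

/-- The morphism of schemes. -/
def schHom : C ⟶ X :=
  ⟨{ toHom := presHom i hsq f r hnat, prop := isLocalHom_stalk i hsq f r hnat hr }⟩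

theorem comp_schHom : i ≫ schHom i hsq f r hnat hr = f := by
  refine Scheme.Hom.ext' (LocallyRingedSpace.Hom.ext' (PresheafedSpace.ext _ _ (TopCat.hom_ext (ContinuousMap.ext
    (baseMap_apply i hsq f))) (NatTrans.ext (funext fun V => CommRingCat.hom_ext (RingHom.ext fun a => ?_)))))
  show D.presheaf.map _ (i.app (pre i hsq f V.unop) (r V.unop a)) = _
  rw [hr, ← ConcreteCategory.comp_apply, ← Functor.map_comp]
  erw [CategoryTheory.Functor.map_id]
  rfl

end Space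

include hsq hφ hc hS hdf hs in
/-- The extension. -/
theorem exists_hom (hfp : f ≫ pX = i ≫ pC) [IsAffine S] :
    ∃ g : C ⟶ X, i ≫ g = f ∧ g ≫ pX = pC ∧ ∀ (V : X.Opens) (a : Γ(X, V)) (h : i ⁻¹ᵁ (g ⁻¹ᵁ V) ≤ f ⁻¹ᵁ V),
      δ i d₁ (g ⁻¹ᵁ V) (g.app V a) = rs _ h (s.app (f ⁻¹ᵁ V) (pullSect f Ω₃ V (d₃.app V a))) := by
  classical
  haveI : Mono φ := hS.mono_f
  choose r hr using exists_img i hsq d₁ d₃ hφ hc hS f hdf s hs
  have uq : ∀ {V : X.Opens} {a : Γ(X, V)} {b : Γ(C, pre i hsq f V)}, IsImg i hsq d₁ d₃ f s V a b → r V a = b :=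
    fun h => img_unique i hsq d₁ d₃ hφ hS f s (hr _ _) h
  let R : ∀ V : X.Opens, Γ(X, V) →+* Γ(C, pre i hsq f V) := fun V =>
    { toFun := r V
      map_one' := uq (img_one i hsq d₁ d₃ f s V)
      map_mul' := fun a a' => uq (img_mul i hsq d₁ d₃ f s (hr V a) (hr V a'))
      map_zero' := uq (img_zero i hsq d₁ d₃ f s V)
      map_add' := fun a a' => uq (img_add i hsq d₁ d₃ f s (hr V a) (hr V a')) }
  have hnat : ∀ {V W : X.Opens} (e : W ≤ V) (a : Γ(X, V)),
      R W (X.presheaf.map (homOfLE e).op a) = C.presheaf.map (homOfLE (pre_mono i hsq f e)).op (R V a) :=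
    fun {V} _ e a => uq (img_map i hsq d₁ d₃ f s e (hr V a))
  have hR : ∀ (V : X.Opens) (a : Γ(X, V)),
      i.app (pre i hsq f V) (R V a) = D.presheaf.map (homOfLE (preimage_pre i hsq f V).le).op (f.app V a) :=
    fun V a => (hr V a).1
  refine ⟨schHom i hsq f R hnat hR, comp_schHom i hsq f R hnat hR, ?_, fun V a h => (hr V a).2⟩
  refine ext_of_isAffine (CommRingCat.hom_ext (RingHom.ext fun x => ?_))
  refine ext_sect i d₁ hφ hsq ?_ ?_
  · show i.app (pre i hsq f (pX ⁻¹ᵁ ⊤)) (r (pX ⁻¹ᵁ ⊤) (pX.app ⊤ x)) = i.app ⊤ (pC.app ⊤ x)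
    rw [(hr _ _).1]
    have := congr($(Scheme.Hom.congr_app hfp ⊤) x)
    erw [CategoryTheory.Functor.map_id]
    simp at this
    exact this
  · show δ i d₁ (pre i hsq f (pX ⁻¹ᵁ ⊤)) (r (pX ⁻¹ᵁ ⊤) (pX.app ⊤ x)) = δ i d₁ (pC ⁻¹ᵁ ⊤) (pC.app ⊤ x)
    rw [(hr _ _).2, δ_base i d₁ ⊤ x,
      show d₃.app (pX ⁻¹ᵁ ⊤) (pX.app ⊤ x) = 0 from d₃.d_app (X := op ⊤) x, map_zero, map_zero]
    exact map_zero _

/-- The extension, for a derivation over a morphism equal to the composite. -/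
theorem exists_hom_of {pD : D ⟶ S} [IsAffine S] (hsq : i.ker ^ 2 = ⊥) (d₁ : OmegaSh.Der pC Ω₁)
    (d₃ : OmegaSh.Der pX Ω₃) (hp : i ≫ pC = pD) {Ω₂ : D.Modules} {d₂ : OmegaSh.Der pD Ω₂}
    {c : (Scheme.Modules.pullback i).obj Ω₁ ⟶ Ω₂} {φ : Omega.conormal i ⟶ (Scheme.Modules.pullback i).obj Ω₁}
    {hw : φ ≫ c = 0} (hφ : OmegaSh.IsConormalDiff i d₁ φ) (hc : OmegaSh.IsDiffCompat i d₁ d₂ c)
    (hS : (ShortComplex.mk φ c hw).ShortExact) (f : D ⟶ X) {df : (Scheme.Modules.pullback f).obj Ω₃ ⟶ Ω₂}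
    (hdf : OmegaSh.IsDiffCompat f d₃ d₂ df)
    (s : (Scheme.Modules.pullback f).obj Ω₃ ⟶ (Scheme.Modules.pullback i).obj Ω₁) (hs : s ≫ c = df)
    (hfp : f ≫ pX = pD) :
    ∃ g : C ⟶ X, i ≫ g = f ∧ g ≫ pX = pC ∧ ∀ (V : X.Opens) (a : Γ(X, V)) (h : i ⁻¹ᵁ (g ⁻¹ᵁ V) ≤ f ⁻¹ᵁ V),
      δ i d₁ (g ⁻¹ᵁ V) (g.app V a) = rs _ h (s.app (f ⁻¹ᵁ V) (pullSect f Ω₃ V (d₃.app V a))) := by
  subst hp
  exact exists_hom i hsq d₁ d₃ hφ hc hS f hdf s hs hfp

/-- An endomorphism under the subscheme fixing differentials is the identity. -/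
theorem hom_eq (d₁ : OmegaSh.Der pC Ω₁) {φ : Omega.conormal i ⟶ (Scheme.Modules.pullback i).obj Ω₁} [Mono φ]
    (hφ : OmegaSh.IsConormalDiff i d₁ φ) (hsq : i.ker ^ 2 = ⊥) (u v : C ⟶ C) (h : i ≫ u = i ≫ v)
    (hv : ∀ (V : C.Opens) (a : Γ(C, V)) (h₁ : i ⁻¹ᵁ (v ⁻¹ᵁ V) ≤ i ⁻¹ᵁ (u ⁻¹ᵁ V))
      (h₂ : i ⁻¹ᵁ (v ⁻¹ᵁ V) ≤ i ⁻¹ᵁ (v ⁻¹ᵁ V)),
      rs _ h₁ (δ i d₁ (u ⁻¹ᵁ V) (u.app V a)) = rs _ h₂ (δ i d₁ (v ⁻¹ᵁ V) (v.app V a))) : u = v := by
  have hbase : u.base = v.base := by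
    refine TopCat.hom_ext (ContinuousMap.ext fun z => ?_)
    obtain ⟨d, rfl⟩ := surjective_base i hsq z
    exact congrArg (fun w : D ⟶ C => w.base d) h
  have hpre : ∀ V : C.Opens, v ⁻¹ᵁ V ≤ u ⁻¹ᵁ V := fun V z hz => by
    show u.base z ∈ V
    rw [hbase]
    exact hz
  have key : ∀ (V : C.Opens) (a : Γ(C, V)), C.presheaf.map (homOfLE (hpre V)).op (u.app V a) = v.app V a := by
    intro V a
    refine ext_sect i d₁ hφ hsq ?_ ?_
    · rw [app_map]
      have := congr($(Scheme.Hom.congr_app h V) a)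
      simp only [Scheme.Hom.comp_app, ConcreteCategory.comp_apply] at this
      refine (congrArg (D.presheaf.map _).hom this).trans ?_
      rw [← ConcreteCategory.comp_apply, ← Functor.map_comp]
      erw [CategoryTheory.Functor.map_id]
      rfl
    · rw [δ_map]
      exact (hv V a (i.preimage_mono (hpre V)) le_rfl).trans (ConormalSecLib.rs_self _)
  refine Scheme.Hom.ext hbase fun V => ConcreteCategory.hom_ext _ _ fun a => ?_
  rw [← key V a]
  rfl

end RibbonExtLib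

end
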