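import Groth.Agent.RibbonExtLib.Hom
import Mathlib.Algebra.Homology.DerivedCategory.Ext.ExtClass
import Mathlib.Algebra.Homology.DerivedCategory.Ext.ExactSequences

/-!
# Morphisms of ribbons and classes of their cotangent sequences
-/

set_option autoImplicit false
set_option linter.style.haveILetI false
set_option maxHeartbeats 1600000
set_option backward.isDefEq.respectTransparency false
set_option backward.isDefEq.respectTransparency.types false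

universe w u

open CategoryTheory CategoryTheory.Limits AlgebraicGeometry TopologicalSpace Opposite
open OmegaSh (pullSect conormalSect idealSect)
open ModGlueLib (rs)

noncomputable section

namespace RibbonExtLib

variable {D C X S : Scheme.{u}} [IsAffine S] (i : D ⟶ C) [IsClosedImmersion i] (hsq : i.ker ^ 2 = ⊥)
  {pC : C ⟶ S} {pX : X ⟶ S} {Ω₁ : C.Modules} (d₁ : OmegaSh.Der pC Ω₁) {Ω₃ : X.Modules} (d₃ : OmegaSh.Der pX Ω₃)
  {pD : D ⟶ S} {Ω₂ : D.Modules} {d₂ : OmegaSh.Der pD Ω₂} {c : (Scheme.Modules.pullback i).obj Ω₁ ⟶ Ω₂}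
  {φ : Omega.conormal i ⟶ (Scheme.Modules.pullback i).obj Ω₁} {hw : φ ≫ c = 0}

theorem extension_iff (hd₃ : OmegaSh.IsUniversal d₃) (hsq : i.ker ^ 2 = ⊥) (hp : i ≫ pC = pD)
    (hφ : OmegaSh.IsConormalDiff i d₁ φ) (hc : OmegaSh.IsDiffCompat i d₁ d₂ c)
    (hS : (ShortComplex.mk φ c hw).ShortExact) (f : D ⟶ X) (hf : f ≫ pX = pD)
    {df : (Scheme.Modules.pullback f).obj Ω₃ ⟶ Ω₂} (hdf : OmegaSh.IsDiffCompat f d₃ d₂ df) :
    (∃ g : C ⟶ X, i ≫ g = f ∧ g ≫ pX = pC) ↔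
      ∃ s : (Scheme.Modules.pullback f).obj Ω₃ ⟶ (Scheme.Modules.pullback i).obj Ω₁, s ≫ c = df := by
  subst hp
  constructor
  · rintro ⟨g, hgf, hgp⟩
    obtain ⟨s, hs⟩ := exists_s i d₁ d₃ hd₃ g hgp hgf
    exact ⟨s, s_comp_eq i d₁ d₃ hd₃ hc g hgf hdf hs⟩
  · rintro ⟨s, hs⟩
    obtain ⟨g, h1, h2, -⟩ := exists_hom i hsq d₁ d₃ hφ hc hS f hdf s hs hf
    exact ⟨g, h1, h2⟩

omit [IsAffine S] in
theorem pullbackId_hom_pullSect (M : D.Modules) (U : D.Opens) (m : Γ(M, U)) :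
    ((Scheme.Modules.pullbackId D).hom.app M).app U (pullSect (𝟙 D) M U m) = m := by
  rw [← OmegaAffLib.pullbackId_inv_app, ← ConcreteCategory.comp_apply, ← Scheme.Modules.Hom.comp_app,
    Iso.inv_hom_id_app]
  rfl

omit [IsAffine S] in
theorem isDiffCompat_id {T : Scheme.{u}} {q : D ⟶ T} {Ω : D.Modules} (d : OmegaSh.Der q Ω) :
    OmegaSh.IsDiffCompat (𝟙 D) d d ((Scheme.Modules.pullbackId D).hom.app Ω) :=
  fun U a => pullbackId_hom_pullSect Ω U (d.app U a)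

theorem split_iff [HasExt.{w} D.Modules] (hd₂ : OmegaSh.IsUniversal d₂) (hsq : i.ker ^ 2 = ⊥) (hp : i ≫ pC = pD)
    (hφ : OmegaSh.IsConormalDiff i d₁ φ) (hc : OmegaSh.IsDiffCompat i d₁ d₂ c)
    (hS : (ShortComplex.mk φ c hw).ShortExact) :
    (∃ r : C ⟶ D, i ≫ r = 𝟙 D ∧ r ≫ pD = pC) ↔ hS.extClass = 0 := by
  rw [extension_iff (X := D) i d₁ d₂ hd₂ hsq hp hφ hc hS (𝟙 D) (Category.id_comp _) (isDiffCompat_id d₂)]
  constructor
  · rintro ⟨s, hs⟩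
    have h1 : ((Scheme.Modules.pullbackId D).inv.app Ω₂ ≫ s) ≫ c = 𝟙 Ω₂ := by
      rw [Category.assoc, hs]
      exact Iso.inv_hom_id_app _ _
    have h2 := congrArg (fun x => (Abelian.Ext.mk₀ ((Scheme.Modules.pullbackId D).inv.app Ω₂ ≫ s)).comp x (zero_add 1))
      hS.comp_extClass
    rw [← Abelian.Ext.comp_assoc (a₁₂ := 0) _ _ _ (by omega) (by omega) (by omega), Abelian.Ext.mk₀_comp_mk₀, h1] at h2
    erw [Abelian.Ext.mk₀_id_comp, Abelian.Ext.comp_zero] at h2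
    exact h2
  · intro h0
    obtain ⟨x, hx⟩ := Abelian.Ext.covariant_sequence_exact₃ Ω₂ hS (Abelian.Ext.mk₀ (𝟙 Ω₂)) (n₁ := 1) (zero_add 1)
      (by rw [h0, Abelian.Ext.comp_zero])
    obtain ⟨t, rfl⟩ := (Abelian.Ext.mk₀_bijective _ _).2 x
    rw [Abelian.Ext.mk₀_comp_mk₀] at hx
    have h1 : t ≫ c = 𝟙 Ω₂ := (Abelian.Ext.mk₀_bijective _ _).1 hx
    exact ⟨(Scheme.Modules.pullbackId D).hom.app Ω₂ ≫ t, by rw [Category.assoc, h1]; exact Category.comp_id _⟩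

section Ribbons

variable {C' : Scheme.{u}} (i' : D ⟶ C') [IsClosedImmersion i'] {pC' : C' ⟶ S} {Ω₁' : C'.Modules}
  (d₁' : OmegaSh.Der pC' Ω₁') {c' : (Scheme.Modules.pullback i').obj Ω₁' ⟶ Ω₂}
  {φ' : Omega.conormal i' ⟶ (Scheme.Modules.pullback i').obj Ω₁'} {hw' : φ' ≫ c' = 0}

omit [IsAffine S] [IsClosedImmersion i] [IsClosedImmersion i'] in
/-- The map of restricted differentials of a morphism under the subscheme. -/
theorem exists_beta (hd₁' : OmegaSh.IsUniversal d₁') (hp : i ≫ pC = pD) (hc : OmegaSh.IsDiffCompat i d₁ d₂ c)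
    (hc' : OmegaSh.IsDiffCompat i' d₁' d₂ c') (g : C ⟶ C') (hgi : i ≫ g = i') (hgk : g ≫ pC' = pC) :
    ∃ β : (Scheme.Modules.pullback i').obj Ω₁' ⟶ (Scheme.Modules.pullback i).obj Ω₁, β ≫ c = c' ∧
      ∀ (V : C'.Opens) (a : Γ(C', V)), β.app (i' ⁻¹ᵁ V) (δ i' d₁' V a) =
        rs _ (le_of_eq (by rw [← hgi]; rfl)) (δ i d₁ (g ⁻¹ᵁ V) (g.app V a)) := by
  subst hp
  obtain ⟨s, hs⟩ := exists_s i d₁ d₁' hd₁' g hgk hgi
  exact ⟨s, s_comp_eq i d₁ d₁' hd₁' hc g hgi hc' hs, hs⟩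

omit [IsAffine S] [IsClosedImmersion i] [IsClosedImmersion i'] in
theorem beta_comp_eq_id (hd₁' : OmegaSh.IsUniversal d₁') (g : C ⟶ C') (g' : C' ⟶ C) (hg : g' ≫ g = 𝟙 C')
    (hgi : i ≫ g = i') (hgi' : i' ≫ g' = i)
    (β : (Scheme.Modules.pullback i').obj Ω₁' ⟶ (Scheme.Modules.pullback i).obj Ω₁)
    (β' : (Scheme.Modules.pullback i).obj Ω₁ ⟶ (Scheme.Modules.pullback i').obj Ω₁')
    (hβ : ∀ (V : C'.Opens) (a : Γ(C', V)), β.app (i' ⁻¹ᵁ V) (δ i' d₁' V a) =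
      rs _ (le_of_eq (by rw [← hgi]; rfl)) (δ i d₁ (g ⁻¹ᵁ V) (g.app V a)))
    (hβ' : ∀ (V : C.Opens) (a : Γ(C, V)), β'.app (i ⁻¹ᵁ V) (δ i d₁ V a) =
      rs _ (le_of_eq (by rw [← hgi']; rfl)) (δ i' d₁' (g' ⁻¹ᵁ V) (g'.app V a))) :
    β ≫ β' = 𝟙 _ := by
  refine OmegaAffLib.hom_ext_pullback hd₁' fun V a => ?_
  have e1 : ∀ {U W : D.Opens} (h : W ≤ U) (x : Γ((Scheme.Modules.pullback i).obj Ω₁, U)),
      β'.app W (rs _ h x) = rs _ h (β'.app U x) := fun h x =>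
    congr($((Scheme.Modules.Hom.mapPresheaf β').naturality (homOfLE h).op) x)
  rw [Scheme.Modules.Hom.comp_app, ConcreteCategory.comp_apply]
  show β'.app (i' ⁻¹ᵁ V) (β.app (i' ⁻¹ᵁ V) (δ i' d₁' V a)) = δ i' d₁' V a
  rw [hβ, e1, hβ', ModGlueLib.rs_rs]
  have hV : g' ⁻¹ᵁ (g ⁻¹ᵁ V) = V := by
    rw [← Scheme.Hom.comp_preimage, hg]
    rfl
  have ha : g'.app (g ⁻¹ᵁ V) (g.app V a) = C'.presheaf.map (homOfLE hV.le).op a := by
    have := congr($(Scheme.Hom.congr_app hg V) a)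
    simp at this
    exact this.trans (congrArg (fun f => C'.presheaf.map f a) (Subsingleton.elim _ _))
  rw [ha, δ_map, ModGlueLib.rs_rs]
  exact ConormalSecLib.rs_self _

omit [IsAffine S] in
theorem conormalDiff_comp (hd₁' : OmegaSh.IsUniversal d₁') (hφ : OmegaSh.IsConormalDiff i d₁ φ)
    (hφ' : OmegaSh.IsConormalDiff i' d₁' φ') (g : C ⟶ C') (hgi : i ≫ g = i')
    (β : (Scheme.Modules.pullback i').obj Ω₁' ⟶ (Scheme.Modules.pullback i).obj Ω₁)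
    (hβ : ∀ (V : C'.Opens) (a : Γ(C', V)), β.app (i' ⁻¹ᵁ V) (δ i' d₁' V a) =
      rs _ (le_of_eq (by rw [← hgi]; rfl)) (δ i d₁ (g ⁻¹ᵁ V) (g.app V a)))
    (α : (Scheme.Modules.pullback (𝟙 D)).obj (Omega.conormal i') ⟶ Omega.conormal i)
    (hα : OmegaSh.IsConormalMap i i' g (𝟙 D) α) :
    φ' ≫ β = ((Scheme.Modules.pullbackId D).inv.app (Omega.conormal i') ≫ α) ≫ φ := by
  have _ := hd₁'
  subst hgi
  refine ConormalSecLib.conormal_hom_ext (i ≫ g) fun U s' => ?_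
  simp only [Scheme.Modules.Hom.comp_app, ConcreteCategory.comp_apply]
  erw [OmegaAffLib.pullbackId_inv_app]
  erw [hφ' U s']
  refine ((hβ U (idealSect (i ≫ g).ker U s')).trans (ConormalSecLib.rs_self _)).trans ?_
  have h0 : i.app (g ⁻¹ᵁ U) (g.app U (idealSect (i ≫ g).ker U s')) = 0 :=
    (congr($(Scheme.Hom.comp_app i g U) (idealSect (i ≫ g).ker U s'))).symm.trans
      (ConormalSecLib.app_idealSect (i ≫ g) U s')
  let t := ConormalSecLib.lift i (g ⁻¹ᵁ U) _ h0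
  have ht : idealSect i.ker (g ⁻¹ᵁ U) t = g.app U (idealSect (i ≫ g).ker U s') := ConormalSecLib.idealSect_lift i _ _ _
  have h2 := hα.2 U s' t ht ((i ≫ g) ⁻¹ᵁ U) le_rfl le_rfl
  have h3 : α.app ((i ≫ g) ⁻¹ᵁ U) (pullSect (𝟙 D) (Omega.conormal (i ≫ g)) ((i ≫ g) ⁻¹ᵁ U) (conormalSect (i ≫ g) U s')) =
      conormalSect i (g ⁻¹ᵁ U) t := by
    refine Eq.trans ?_ (h2.trans (ConormalSecLib.rs_self _))
    exact (ConormalSecLib.rs_self _).symm
  refine Eq.trans ?_ (congrArg (φ.app _) h3).symm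
  refine Eq.trans ?_ (hφ (g ⁻¹ᵁ U) t).symm
  rw [ht]
  rfl

omit [IsAffine S] in
theorem extClass_map [HasExt.{w} D.Modules] (hd₁' : OmegaSh.IsUniversal d₁') (hp : i ≫ pC = pD)
    (hφ : OmegaSh.IsConormalDiff i d₁ φ) (hc : OmegaSh.IsDiffCompat i d₁ d₂ c)
    (hS : (ShortComplex.mk φ c hw).ShortExact)
    (hφ' : OmegaSh.IsConormalDiff i' d₁' φ') (hc' : OmegaSh.IsDiffCompat i' d₁' d₂ c')
    (hS' : (ShortComplex.mk φ' c' hw').ShortExact) (g : C ⟶ C') (hgi : i ≫ g = i') (hgk : g ≫ pC' = pC)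
    (α : (Scheme.Modules.pullback (𝟙 D)).obj (Omega.conormal i') ⟶ Omega.conormal i)
    (hα : OmegaSh.IsConormalMap i i' g (𝟙 D) α) :
    hS'.extClass.comp (Abelian.Ext.mk₀ ((Scheme.Modules.pullbackId D).inv.app (Omega.conormal i') ≫ α)) (add_zero 1) =
      hS.extClass := by
  obtain ⟨β, hβc, hβ⟩ := exists_beta i d₁ i' d₁' hd₁' hp hc hc' g hgi hgk
  let m : ShortComplex.mk φ' c' hw' ⟶ ShortComplex.mk φ c hw :=
    { τ₁ := (Scheme.Modules.pullbackId D).inv.app (Omega.conormal i') ≫ α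
      τ₂ := β
      τ₃ := 𝟙 Ω₂
      comm₁₂ := (conormalDiff_comp i d₁ i' d₁' hd₁' hφ hφ' g hgi β hβ α hα).symm
      comm₂₃ := hβc.trans (Category.comp_id _).symm }
  exact (ShortComplex.ShortExact.extClass_naturality hS' hS m).trans (Abelian.Ext.mk₀_id_comp _)

theorem iso_iff [HasExt.{w} D.Modules] (hd₁ : OmegaSh.IsUniversal d₁) (hd₁' : OmegaSh.IsUniversal d₁')
    (hsq : i.ker ^ 2 = ⊥) (hsq' : i'.ker ^ 2 = ⊥) (hp : i ≫ pC = pD) (hp' : i' ≫ pC' = pD)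
    (hφ : OmegaSh.IsConormalDiff i d₁ φ) (hc : OmegaSh.IsDiffCompat i d₁ d₂ c)
    (hS : (ShortComplex.mk φ c hw).ShortExact)
    (hφ' : OmegaSh.IsConormalDiff i' d₁' φ') (hc' : OmegaSh.IsDiffCompat i' d₁' d₂ c')
    (hS' : (ShortComplex.mk φ' c' hw').ShortExact) :
    (∃ ψ : C ≅ C', i ≫ ψ.hom = i' ∧ ψ.hom ≫ pC' = pC) ↔
      ∃ α : Omega.conormal i ≅ Omega.conormal i',
        hS.extClass.comp (Abelian.Ext.mk₀ α.hom) (add_zero 1) = hS'.extClass := by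
  constructor
  · rintro ⟨ψ, hψi, hψk⟩
    have hψi' : i' ≫ ψ.inv = i := by rw [← hψi, Category.assoc, Iso.hom_inv_id, Category.comp_id]
    have hψk' : ψ.inv ≫ pC = pC' := by rw [← hψk, Iso.inv_hom_id_assoc]
    obtain ⟨β, hβc, hβ⟩ := exists_beta i d₁ i' d₁' hd₁' hp hc hc' ψ.hom hψi hψk
    obtain ⟨β', hβ'c, hβ'⟩ := exists_beta i' d₁' i d₁ hd₁ hp' hc' hc ψ.inv hψi' hψk'
    have e1 := beta_comp_eq_id i d₁ i' d₁' hd₁' ψ.hom ψ.inv ψ.inv_hom_id hψi hψi' β β' hβ hβ'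
    have e2 := beta_comp_eq_id i' d₁' i d₁ hd₁ ψ.inv ψ.hom ψ.hom_inv_id hψi' hψi β' β hβ' hβ
    haveI := hS.mono_f
    haveI := hS'.mono_f
    let a := hS'.fIsKernel.lift (KernelFork.ofι (φ ≫ β') (by
      show (φ ≫ β') ≫ c' = 0
      rw [Category.assoc, hβ'c, hw]))
    let b := hS.fIsKernel.lift (KernelFork.ofι (φ' ≫ β) (by
      show (φ' ≫ β) ≫ c = 0
      rw [Category.assoc, hβc, hw']))
    have ha : a ≫ φ' = φ ≫ β' := hS'.fIsKernel.fac _ WalkingParallelPair.zero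
    have hb : b ≫ φ = φ' ≫ β := hS.fIsKernel.fac _ WalkingParallelPair.zero
    let α : Omega.conormal i ≅ Omega.conormal i' :=
      { hom := a
        inv := b
        hom_inv_id := (cancel_mono φ).1 (by rw [Category.assoc, hb, ← Category.assoc, ha, Category.assoc, e2,
          Category.comp_id, Category.id_comp])
        inv_hom_id := (cancel_mono φ').1 (by rw [Category.assoc, ha, ← Category.assoc, hb, Category.assoc, e1,
          Category.comp_id, Category.id_comp]) }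
    let m : ShortComplex.mk φ c hw ⟶ ShortComplex.mk φ' c' hw' :=
      { τ₁ := α.hom
        τ₂ := β'
        τ₃ := 𝟙 Ω₂
        comm₁₂ := ha
        comm₂₃ := hβ'c.trans (Category.comp_id _).symm }
    exact ⟨α, (ShortComplex.ShortExact.extClass_naturality hS hS' m).trans (Abelian.Ext.mk₀_id_comp _)⟩
  · rintro ⟨α, hα⟩
    obtain ⟨x, hx⟩ := Abelian.Ext.contravariant_sequence_exact₁ hS _ (Abelian.Ext.mk₀ (α.hom ≫ φ')) (n₁ := 1) rfl (by
      rw [← Abelian.Ext.mk₀_comp_mk₀, ← Abelian.Ext.comp_assoc (a₁₂ := 1) _ _ _ (by omega) (by omega) (by omega), hα]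
      exact hS'.extClass_comp)
    obtain ⟨β₀, rfl⟩ := (Abelian.Ext.mk₀_bijective _ _).2 x
    rw [Abelian.Ext.mk₀_comp_mk₀] at hx
    have h0 : φ ≫ β₀ = α.hom ≫ φ' := (Abelian.Ext.mk₀_bijective _ _).1 hx
    have hk : φ ≫ (β₀ ≫ c') = 0 := by rw [← Category.assoc, h0, Category.assoc, hw', comp_zero]
    let γ : Ω₂ ⟶ Ω₂ := hS.gIsCokernel.desc (CokernelCofork.ofπ (β₀ ≫ c') hk)
    have hγ : c ≫ γ = β₀ ≫ c' := hS.gIsCokernel.fac _ WalkingParallelPair.one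
    let m : ShortComplex.mk φ c hw ⟶ ShortComplex.mk φ' c' hw' :=
      { τ₁ := α.hom, τ₂ := β₀, τ₃ := γ, comm₁₂ := h0.symm, comm₂₃ := hγ.symm }
    have hn := ShortComplex.ShortExact.extClass_naturality hS hS' m
    have hn' : (Abelian.Ext.mk₀ (γ - 𝟙 Ω₂)).comp hS'.extClass (zero_add 1) = 0 := by
      rw [sub_eq_add_neg, Abelian.Ext.mk₀_add, Abelian.Ext.mk₀_neg, Abelian.Ext.add_comp, Abelian.Ext.neg_comp,
        Abelian.Ext.mk₀_id_comp, ← hn, hα, add_neg_cancel]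
    obtain ⟨x, hx⟩ := Abelian.Ext.covariant_sequence_exact₃ Ω₂ hS' (Abelian.Ext.mk₀ (γ - 𝟙 Ω₂)) (n₁ := 1) (zero_add 1) hn'
    obtain ⟨t, rfl⟩ := (Abelian.Ext.mk₀_bijective _ _).2 x
    rw [Abelian.Ext.mk₀_comp_mk₀] at hx
    have ht : t ≫ c' = γ - 𝟙 Ω₂ := (Abelian.Ext.mk₀_bijective _ _).1 hx
    let β' : (Scheme.Modules.pullback i).obj Ω₁ ⟶ (Scheme.Modules.pullback i').obj Ω₁' := β₀ - c ≫ t
    have hβ'c : β' ≫ c' = c := by
      simp only [β', Preadditive.sub_comp, Category.assoc, ht, Preadditive.comp_sub, hγ, Category.comp_id]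
      abel
    let m' : ShortComplex.mk φ c hw ⟶ ShortComplex.mk φ' c' hw' :=
      { τ₁ := α.hom
        τ₂ := β'
        τ₃ := 𝟙 Ω₂
        comm₁₂ := by
          show α.hom ≫ φ' = φ ≫ β'
          simp only [β', Preadditive.comp_sub, ← Category.assoc, hw, zero_comp, sub_zero, h0]
        comm₂₃ := hβ'c.trans (Category.comp_id _).symm }
    haveI : IsIso m'.τ₁ := inferInstanceAs (IsIso α.hom)
    haveI : IsIso m'.τ₃ := inferInstanceAs (IsIso (𝟙 Ω₂))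
    haveI : IsIso β' := ShortComplex.isIso₂_of_shortExact_of_isIso₁₃ m' hS hS'
    have hβc : inv β' ≫ c = c' := by rw [IsIso.inv_comp_eq, hβ'c]
    subst hp
    obtain ⟨g, hgi, hgk, hg⟩ := exists_hom i hsq d₁ d₁' hφ hc hS i' hc' (inv β') hβc hp'
    obtain ⟨g', hg'i, hg'k, hg'⟩ : ∃ g' : C' ⟶ C, i' ≫ g' = i ∧ g' ≫ pC = pC' ∧
        ∀ (V : C.Opens) (a : Γ(C, V)) (h : i' ⁻¹ᵁ (g' ⁻¹ᵁ V) ≤ i ⁻¹ᵁ V),
          δ i' d₁' (g' ⁻¹ᵁ V) (g'.app V a) = rs _ h (β'.app (i ⁻¹ᵁ V) (δ i d₁ V a)) :=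
      exists_hom_of i' hsq' d₁' d₁ hp' hφ' hc' hS' i hc β' hβ'c rfl
    haveI := hS.mono_f
    haveI := hS'.mono_f
    have nat : ∀ {A B : D.Modules} (u : A ⟶ B) {U W : D.Opens} (h : W ≤ U) (x : Γ(A, U)),
        u.app W (rs A h x) = rs B h (u.app U x) := fun {A B} u {U W} h x =>
      congr($((Scheme.Modules.Hom.mapPresheaf u).naturality (homOfLE h).op) x)
    refine ⟨⟨g, g', ?_, ?_⟩, hgi, hgk⟩
    · refine hom_eq i d₁ hφ hsq _ _ ?_ ?_
      · rw [← Category.assoc, hgi, hg'i, Category.comp_id]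
      · intro V a h₁ h₂
        rw [Scheme.Hom.comp_app, ConcreteCategory.comp_apply]
        refine (congrArg (rs _ h₁) (hg (g' ⁻¹ᵁ V) (g'.app V a)
          (le_of_eq (by rw [← hgi]; rfl)))).trans ?_
        refine (congrArg (fun x => rs _ h₁ (rs _ _ ((inv β').app _ x)))
          (hg' V a (le_of_eq (by rw [← hg'i]; rfl)))).trans ?_
        rw [nat, ModGlueLib.rs_rs, ModGlueLib.rs_rs, ← ConcreteCategory.comp_apply, ← Scheme.Modules.Hom.comp_app,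
          IsIso.hom_inv_id]
        rfl
    · refine hom_eq i' d₁' hφ' hsq' _ _ ?_ ?_
      · rw [← Category.assoc, hg'i, hgi, Category.comp_id]
      · intro V a h₁ h₂
        rw [Scheme.Hom.comp_app, ConcreteCategory.comp_apply]
        refine (congrArg (rs _ h₁) (hg' (g ⁻¹ᵁ V) (g.app V a)
          (le_of_eq (by rw [← hg'i]; rfl)))).trans ?_
        refine (congrArg (fun x => rs _ h₁ (rs _ _ (β'.app _ x)))
          (hg V a (le_of_eq (by rw [← hgi]; rfl)))).trans ?_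
        rw [nat, ModGlueLib.rs_rs, ModGlueLib.rs_rs, ← ConcreteCategory.comp_apply, ← Scheme.Modules.Hom.comp_app,
          IsIso.inv_hom_id]
        rfl

end Ribbons

end RibbonExtLib

end
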